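import Cfsg.Agent.H478.RadTools_m3
import Cfsg.Agent.H316.RedQ
import Cfsg.Agent.S0245
import Cfsg.Agent.S0822
import Cfsg.Agent.ClassicalGeometry.SympInvolutions
import Cfsg.Agent.LieClassical.SympCenter
import Cfsg.Agent.LieClassical.FieldTransfer
import Cfsg.Agent.Lib.MatDec
import Cfsg.Agent.FastGrp
import Cfsg.Agent.Prune
set_option linter.all false
open scoped Cfsg.Agent.FastGrp

/-!
# Radical elements of order three in `PSp4(3) ≃ U4(2)` (helper855, for S3854, S3832, S4336; task 1204)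
-/

set_option autoImplicit false

namespace Cfsg.Agent.H855.Rad3.SpFour

open Subgroup Cfsg Matrix Cfsg.Agent.SignalizersComponents.ComponentExists Cfsg.Agent.H459.Rad
  Cfsg.Agent.H459.Iface Cfsg.Agent.H839.Rad Cfsg.Agent.H959.Rad3

abbrev Sp := Matrix.symplecticGroup (Fin 2) (ZMod 3)
abbrev M4 := Matrix (Fin 2 ⊕ Fin 2) (Fin 2 ⊕ Fin 2) (ZMod 3)

def m4 (a00 a01 a02 a03 a10 a11 a12 a13 a20 a21 a22 a23 a30 a31 a32 a33 : ZMod 3) : M4 :=
  Matrix.fromBlocks !![a00, a01; a10, a11] !![a02, a03; a12, a13] !![a20, a21; a30, a31] !![a22, a23; a32, a33]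

/-- the upper unitriangular elements -/
def uM (p a b c : ZMod 3) : M4 := m4 1 p (a + p * b) (b + p * c) 0 1 b c 0 0 1 0 0 0 (-p) 1

def TM : M4 := uM 0 1 0 0
def tM : Fin 4 → M4 := ![m4 2 2 1 2 0 1 2 2 2 1 1 0 1 1 1 2, m4 0 0 0 1 1 0 1 2 2 2 0 2 2 0 0 0, m4 1 0 0 1 2 1 1 0 2 1 2 1 1 0 0 2, m4 0 0 2 2 0 0 2 1 2 2 0 0 2 1 0 0]
def gM : Fin 4 → M4 := ![m4 2 1 2 2 2 0 1 2 0 0 0 1 0 0 2 2, m4 1 2 0 1 2 2 1 2 0 1 0 1 0 1 2 1, m4 0 0 1 1 1 2 2 2 0 2 2 1 0 0 1 0, m4 1 2 1 2 0 2 0 2 0 0 1 0 0 0 2 2]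
def aM : M4 := m4 1 0 0 0 0 1 0 0 2 1 1 0 1 2 0 1
def bM : M4 := m4 1 0 1 2 0 1 2 1 0 0 1 0 0 0 0 1
def cM : M4 := m4 1 0 0 0 0 0 0 1 0 0 1 0 0 2 0 2
def yM : M4 := m4 2 1 0 2 0 2 2 0 1 1 1 1 2 0 1 1
def gaM : M4 := m4 0 1 0 0 0 1 1 0 1 0 0 1 2 1 1 0
def gbM : M4 := m4 2 2 2 2 1 0 0 1 0 0 0 2 0 0 1 2
def gcM : M4 := m4 0 2 0 1 1 2 2 1 0 1 2 1 1 2 0 1

theorem uM_symp : ∀ p a b c : ZMod 3, uM p a b c * J (Fin 2) (ZMod 3) * (uM p a b c)ᵀ = J (Fin 2) (ZMod 3) := by
  (delta Cfsg.Agent.H855.Rad3.SpFour.uM Cfsg.Agent.H855.Rad3.SpFour.m4; set_option synthInstance.maxSize 20000 in open scoped Cfsg.Agent.Lib.MatDec in decide +kernel)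

theorem tM_symp : ∀ i, tM i * J (Fin 2) (ZMod 3) * (tM i)ᵀ = J (Fin 2) (ZMod 3) := by decide +kernel
theorem gM_symp : ∀ i, gM i * J (Fin 2) (ZMod 3) * (gM i)ᵀ = J (Fin 2) (ZMod 3) := by decide +kernel

theorem six : ∀ p x y z w r : ZMod 3,
    m4 1 p x y 0 1 z w 0 0 1 0 0 0 r 1 * J (Fin 2) (ZMod 3) * (m4 1 p x y 0 1 z w 0 0 1 0 0 0 r 1)ᵀ = J (Fin 2) (ZMod 3) →
    m4 1 p x y 0 1 z w 0 0 1 0 0 0 r 1 = uM p (x - p * z) z w := by
  (delta Cfsg.Agent.H855.Rad3.SpFour.m4 Cfsg.Agent.H855.Rad3.SpFour.uM; set_option synthInstance.maxSize 20000 in open scoped Cfsg.Agent.Lib.MatDec in decide +kernel)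

/-- order five modulo the centre -/
def five (v : M4) : Prop := (v ≠ 1 ∧ v ≠ -1) ∧ (v * v * (v * v) * v = 1 ∨ v * v * (v * v) * v = -1)

instance (v : M4) : Decidable (five v) := by unfold five; infer_instance

/-- conjugate to a transvection -/
def tv (u : M4) (j : Fin 4) : Prop := u * gM j = gM j * TM ∨ u * gM j = gM j * (TM * TM)

instance (u : M4) (j : Fin 4) : Decidable (tv u j) := by unfold tv; infer_instance

def good (u : M4) : Prop := (∃ i : Fin 4, five (u * tM i)) ∨ ∃ j : Fin 4, tv u j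

instance (u : M4) : Decidable (good u) := by unfold good; infer_instance

/-- the certificate -/
theorem table : ∀ p a b c : ZMod 3, uM p a b c * (uM p a b c * uM p a b c) = 1 → uM p a b c ≠ 1 →
    good (uM p a b c) := by
  (delta Cfsg.Agent.H855.Rad3.SpFour.uM Cfsg.Agent.H855.Rad3.SpFour.good Cfsg.Agent.H855.Rad3.SpFour.m4 Cfsg.Agent.H855.Rad3.SpFour.five Cfsg.Agent.H855.Rad3.SpFour.tM Cfsg.Agent.H855.Rad3.SpFour.tv Cfsg.Agent.H855.Rad3.SpFour.gM; set_option synthInstance.maxSize 20000 in open scoped Cfsg.Agent.Lib.MatDec in decide +kernel)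

/-! ### the group -/

section Grp

open Sum

def mkS (M : M4) (h : M * J (Fin 2) (ZMod 3) * Mᵀ = J (Fin 2) (ZMod 3)) : Sp := ⟨M, SymplecticGroup.mem_iff.2 h⟩

/-- the projection -/
def pj : Sp →* PSp 2 (ZMod 3) := QuotientGroup.mk' _

theorem pj_surjective : Function.Surjective pj := QuotientGroup.mk'_surjective _

theorem pj_eq_one {z : Sp} : pj z = 1 ↔ z.1 = 1 ∨ z.1 = -1 := by
  rw [pj, ← MonoidHom.mem_ker, QuotientGroup.ker_mk']
  constructor
  · exact Cfsg.Agent.ClassicalGeometry.SympInvolutions.center_eq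
  · rw [Cfsg.Agent.LieClassical.SympCenter.mem_center_iff]
    rintro (h | h)
    · exact ⟨1, by rw [h, one_smul]⟩
    · exact ⟨-1, by rw [h, neg_smul, one_smul]⟩

/-- the unitriangular elements -/
def Umon : Submonoid Sp where
  carrier := {g | ∃ p x y z w r, g.1 = m4 1 p x y 0 1 z w 0 0 1 0 0 0 r 1}
  one_mem' := ⟨0, 0, 0, 0, 0, 0, by
    show (1 : M4) = _
    decide +kernel⟩
  mul_mem' := by
    rintro a b ⟨p, x, y, z, w, r, h⟩ ⟨p', x', y', z', w', r', h'⟩
    refine ⟨p' + p, x' + p * z' + (x + y * r'), y' + p * w' + y, z' + (z + w * r'), w' + w, r + r', ?_⟩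
    show a.1 * b.1 = _
    rw [h, h']
    unfold m4
    rw [fromBlocks_multiply]
    congr 1 <;> ext i j <;> fin_cases i <;> fin_cases j <;>
      simp [Matrix.add_apply]

def U : Subgroup Sp :=
  { Umon with
    inv_mem' := by
      intro x hx
      have h1 : x⁻¹ ∈ Submonoid.powers x := by
        rw [(isOfFinOrder_of_finite x).mem_powers_iff_mem_zpowers]
        exact inv_mem (mem_zpowers x)
      exact (Submonoid.powers_le (P := Umon)).2 hx h1 }

theorem mem_U {g : Sp} : g ∈ U ↔ ∃ p a b c, g.1 = uM p a b c := by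
  constructor
  · rintro ⟨p, x, y, z, w, r, h⟩
    have h1 := SymplecticGroup.mem_iff.1 g.2
    rw [h] at h1
    exact ⟨p, x - p * z, z, w, h.trans (six p x y z w r h1)⟩
  · rintro ⟨p, a, b, c, h⟩
    exact ⟨p, a + p * b, b + p * c, b, c, -p, h⟩

theorem card_U : Nat.card U = 81 := by
  let f : ZMod 3 × ZMod 3 × ZMod 3 × ZMod 3 → U := fun t => ⟨mkS (uM t.1 t.2.1 t.2.2.1 t.2.2.2) (uM_symp _ _ _ _),
    mem_U.2 ⟨_, _, _, _, rfl⟩⟩
  have hf : Function.Bijective f := by
    constructor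
    · rintro ⟨p, a, b, c⟩ ⟨p', a', b', c'⟩ h
      have h1 : uM p a b c = uM p' a' b' c' := congrArg (fun t : U => t.1.1) h
      have e1 : p = p' := congrFun (congrFun h1 (inl 0)) (inl 1)
      have e2 : b = b' := congrFun (congrFun h1 (inl 1)) (inr 0)
      have e3 : c = c' := congrFun (congrFun h1 (inl 1)) (inr 1)
      have e4 : a + p * b = a' + p' * b' := congrFun (congrFun h1 (inl 0)) (inr 0)
      subst e1 e2 e3
      have e5 := add_right_cancel e4
      subst e5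
      rfl
    · rintro ⟨g, hg⟩
      obtain ⟨p, a, b, c, h⟩ := mem_U.1 hg
      exact ⟨(p, a, b, c), Subtype.ext (Subtype.ext h.symm)⟩
  rw [← Nat.card_congr (Equiv.ofBijective f hf)]
  simp [Nat.card_eq_fintype_card, ZMod.card]

theorem card_Sp : Nat.card Sp = 51840 := by
  have h := Cfsg.Agent.S0245.result (F := ZMod 3) (q := 3) (by rw [ZMod.card]) 2
  rw [h]
  decide

theorem index_U : U.index = 640 := by
  have h := U.card_mul_index
  rw [card_U, card_Sp] at h
  omega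

theorem conj_mem {A : Sp} (hA : A ^ 3 = 1) : ∃ g : Sp, g * A * g⁻¹ ∈ U := by
  have : Fact (Nat.Prime 3) := ⟨Nat.prime_three⟩
  have hU : IsPGroup 3 U := IsPGroup.of_card (n := 4) (by rw [card_U]; norm_num)
  let P : Sylow 3 Sp := hU.toSylow (by rw [index_U]; norm_num)
  have hx : IsPGroup 3 ↥(zpowers A) := by
    intro z
    obtain ⟨z, hz⟩ := z
    obtain ⟨n, rfl⟩ := mem_zpowers_iff.1 hz
    refine ⟨1, Subtype.ext ?_⟩
    show (A ^ n) ^ 3 ^ 1 = 1
    rw [pow_one, ← _root_.zpow_natCast, ← _root_.zpow_mul, mul_comm, _root_.zpow_mul, _root_.zpow_natCast, hA,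
      _root_.one_zpow]
  obtain ⟨P', hP'⟩ := hx.exists_le_sylow
  obtain ⟨g, hg⟩ := MulAction.exists_smul_eq Sp P' P
  refine ⟨g, ?_⟩
  have h1 : g * A * g⁻¹ ∈ (P : Subgroup Sp) := by
    rw [← hg, Sylow.coe_subgroup_smul]
    exact smul_mem_pointwise_smul A (MulAut.conj g) _ (hP' (mem_zpowers A))
  exact h1

end Grp

section TestTools

variable {K : Type*} [Group K]

theorem test_conj {a : K} (h : Test (MulAut.conj a)) (g : K) : Test (MulAut.conj (g * a * g⁻¹)) := by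
  rcases h with h | h
  · exact Or.inl (T2.conj h g)
  · exact Or.inr (ps_conj h g)

theorem test_inv {x : MulAut K} (h : Test x) : Test x⁻¹ := by
  rcases h with h | h
  · refine Or.inl fun y hy => ?_
    refine isSolvable_of_le ?_ (h y hy)
    rw [closure_le]
    rintro _ (rfl | rfl)
    · exact inv_mem (subset_closure (Or.inl rfl))
    · exact subset_closure (Or.inr rfl)
  · refine Or.inr fun f => ?_
    refine isSolvable_of_le ?_ (h f)
    rw [closure_le]
    rintro _ ⟨i, rfl⟩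
    have e : MulAut.conj (f i) * x⁻¹ * (MulAut.conj (f i))⁻¹ = (MulAut.conj (f i) * x * (MulAut.conj (f i))⁻¹)⁻¹ := by
      group
    rw [SetLike.mem_coe]
    show MulAut.conj (f i) * x⁻¹ * (MulAut.conj (f i))⁻¹ ∈ _
    rw [e]
    exact inv_mem (subset_closure ⟨i, rfl⟩)

end TestTools

section Main

theorem p3 {M : Type*} [Monoid M] (x : M) : x ^ 3 = x * (x * x) := by rw [pow_succ, pow_two, mul_assoc]
theorem p4 {M : Type*} [Monoid M] (x : M) : x ^ 4 = (x * x) * (x * x) := by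
  rw [show 4 = 2 + 2 from rfl, pow_add, pow_two]
theorem p5 {M : Type*} [Monoid M] (x : M) : x ^ 5 = (x * x) * (x * x) * x := by rw [pow_succ, p4]

theorem m4_symp_all : (TM * J (Fin 2) (ZMod 3) * TMᵀ = J (Fin 2) (ZMod 3)) ∧
    (yM * J (Fin 2) (ZMod 3) * yMᵀ = J (Fin 2) (ZMod 3)) ∧
    (aM * J (Fin 2) (ZMod 3) * aMᵀ = J (Fin 2) (ZMod 3)) ∧ (bM * J (Fin 2) (ZMod 3) * bMᵀ = J (Fin 2) (ZMod 3)) ∧
    (cM * J (Fin 2) (ZMod 3) * cMᵀ = J (Fin 2) (ZMod 3)) ∧ (gaM * J (Fin 2) (ZMod 3) * gaMᵀ = J (Fin 2) (ZMod 3)) ∧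
    (gbM * J (Fin 2) (ZMod 3) * gbMᵀ = J (Fin 2) (ZMod 3)) ∧ (gcM * J (Fin 2) (ZMod 3) * gcMᵀ = J (Fin 2) (ZMod 3)) := by
  (set_option synthInstance.maxSize 20000 in open scoped Cfsg.Agent.Lib.MatDec in decide +kernel)

def T : Sp := mkS TM m4_symp_all.1
def y : Sp := mkS yM m4_symp_all.2.1
def a : Sp := mkS aM m4_symp_all.2.2.1
def b : Sp := mkS bM m4_symp_all.2.2.2.1
def c : Sp := mkS cM m4_symp_all.2.2.2.2.1
def ga : Sp := mkS gaM m4_symp_all.2.2.2.2.2.1
def gb : Sp := mkS gbM m4_symp_all.2.2.2.2.2.2.1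
def gc : Sp := mkS gcM m4_symp_all.2.2.2.2.2.2.2
def tS (i : Fin 4) : Sp := mkS (tM i) (tM_symp i)
def gS (i : Fin 4) : Sp := mkS (gM i) (gM_symp i)

theorem T3 : T * (T * T) = 1 := Subtype.ext (by show TM * (TM * TM) = 1; decide +kernel)
theorem hya : y * b * c * a = T := Subtype.ext (by show yM * bM * cM * aM = TM; decide +kernel)
theorem ha : ga * T = a * ga := Subtype.ext (by show gaM * TM = aM * gaM; decide +kernel)
theorem hb : gb * T = b * gb := Subtype.ext (by show gbM * TM = bM * gbM; decide +kernel)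
theorem hc : gc * T = c * gc := Subtype.ext (by show gcM * TM = cM * gcM; decide +kernel)
theorem y4 : (yM * yM) * (yM * yM) = 1 ∨ (yM * yM) * (yM * yM) = -1 := by decide +kernel
theorem five_Ty : five (TM * yM) := by decide +kernel
theorem tM_sq : ∀ i, tM i * tM i = 1 ∨ tM i * tM i = -1 := by decide +kernel

theorem pj_y4 : pj y ^ 2 ^ 2 = 1 := by
  rw [← map_pow, pj_eq_one]
  have e : (y ^ 2 ^ 2).1 = (yM * yM) * (yM * yM) := by
    rw [show y ^ 2 ^ 2 = (y * y) * (y * y) from p4 y]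
    rfl
  rw [e]
  exact y4

theorem five_pj {u t : Sp} (h : five (u.1 * t.1)) : (pj u * pj t) ^ 5 = 1 ∧ pj u * pj t ≠ 1 := by
  obtain ⟨⟨h1, h2⟩, h3⟩ := h
  rw [← map_mul]
  constructor
  · rw [← map_pow, pj_eq_one]
    have e : ((u * t) ^ 5).1 = (u.1 * t.1) * (u.1 * t.1) * ((u.1 * t.1) * (u.1 * t.1)) * (u.1 * t.1) := by
      rw [p5]
      rfl
    rw [e]
    exact h3
  · rw [Ne, pj_eq_one]
    rintro (h | h)
    · exact h1 h
    · exact h2 h

theorem center_P : center (PSp 2 (ZMod 3)) = ⊥ := by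
  have := H316.Red.simple_psp (F := ZMod 3) (by rw [ZMod.card])
  exact H316.Red.center_eq_bot (H316.Red.card_psp (F := ZMod 3) (by rw [ZMod.card]))

/-- the transvections -/
theorem false_T (hT : Test (MulAut.conj (pj T))) : False := by
  have hT3 : pj T ^ 3 = 1 := by
    rw [← map_pow, p3, T3, map_one]
  obtain ⟨h5, h5'⟩ := five_pj (u := T) (t := y) five_Ty
  have key : ¬ Group.IsSolvable ↥(Subgroup.closure ({pj T, pj y} : Set (PSp 2 (ZMod 3)))) :=
    not_solvable_of_coprime (a := pj T) (b := pj y) (k := 2) (n := 5) hT3 pj_y4 h5 (by norm_num) h5'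
  rcases hT with hT | hT
  · exact key (hT.solvable center_P ⟨2, pj_y4⟩)
  · apply key
    refine solvable_of_conj center_P ?_
    have h2 := hT ![1, pj ga, pj gb, pj gc]
    refine isSolvable_of_le ?_ h2
    set H := Subgroup.closure (Set.range fun i => MulAut.conj ((![1, pj ga, pj gb, pj gc] : Fin 4 → PSp 2 (ZMod 3)) i) *
      MulAut.conj (pj T) * (MulAut.conj ((![1, pj ga, pj gb, pj gc] : Fin 4 → PSp 2 (ZMod 3)) i))⁻¹) with hH
    have hTm : MulAut.conj (pj T) ∈ H := subset_closure ⟨0, by simp⟩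
    have gen : ∀ {g z : Sp}, g * T = z * g → MulAut.conj (pj g) * MulAut.conj (pj T) * (MulAut.conj (pj g))⁻¹ =
        MulAut.conj (pj z) := by
      intro g z h
      rw [← map_mul, ← map_mul, h, map_mul, map_mul, mul_inv_cancel_right]
    have ham : MulAut.conj (pj a) ∈ H := subset_closure ⟨1, gen ha⟩
    have hbm : MulAut.conj (pj b) ∈ H := subset_closure ⟨2, gen hb⟩
    have hcm : MulAut.conj (pj c) ∈ H := subset_closure ⟨3, gen hc⟩
    have hym : MulAut.conj (pj y) ∈ H := by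
      have e : y = T * a⁻¹ * c⁻¹ * b⁻¹ := by
        rw [← hya]
        group
      rw [e]
      simp only [map_mul, map_inv]
      exact mul_mem (mul_mem (mul_mem hTm (inv_mem ham)) (inv_mem hcm)) (inv_mem hbm)
    rw [closure_le]
    rintro _ (rfl | rfl)
    · exact hTm
    · exact hym

theorem row_inn {A : Sp} (hA : A ^ 3 = 1) (hA1 : A ≠ 1) (hT : Test (MulAut.conj (pj A))) : False := by
  obtain ⟨g, hg⟩ := conj_mem hA
  obtain ⟨B, hB⟩ : ∃ B, B = g * A * g⁻¹ := ⟨_, rfl⟩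
  rw [← hB] at hg
  have hB3 : B ^ 3 = 1 := by rw [hB, conj_pow, hA, mul_one, mul_inv_cancel]
  have hB1 : B ≠ 1 := by
    intro h
    apply hA1
    rw [hB] at h
    exact conj_eq_one_iff.1 h
  have hTB : Test (MulAut.conj (pj B)) := by
    have e : pj B = pj g * pj A * (pj g)⁻¹ := by rw [hB, map_mul, map_mul, map_inv]
    rw [e]
    exact test_conj hT _
  clear hB
  have hm := mem_U.1 hg
  obtain ⟨p, x, z, w, h⟩ := hm
  have hc1 : B.1 * (B.1 * B.1) = 1 := by
    have h2 : B * (B * B) = 1 := by rw [← p3, hB3]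
    exact congrArg (fun t : Sp => t.1) h2
  have hc2 : B.1 ≠ 1 := fun h2 => hB1 (Subtype.ext h2)
  have h1 : good B.1 := by
    rw [h] at hc1 hc2 ⊢
    exact table p x z w hc1 hc2
  rcases h1 with ⟨i, h1⟩ | ⟨j, h1⟩
  · obtain ⟨h5, h5'⟩ := five_pj (u := B) (t := tS i) h1
    have ht : pj (tS i) * pj (tS i) = 1 := by
      rw [← map_mul, pj_eq_one]
      exact tM_sq i
    exact not_solvable_of_coprime (a := pj B) (b := pj (tS i)) (k := 1) (n := 5)
      (by rw [← map_pow, hB3, map_one]) (by rw [pow_one, pow_two, ht]) h5 (by norm_num) h5'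
      (hTB.inv.solvable center_P ht)
  · have key : ∀ V : Sp, B * gS j = gS j * V → Test (MulAut.conj (pj V)) := by
      intro V hV
      have e : V = (gS j)⁻¹ * B * ((gS j)⁻¹)⁻¹ := by
        rw [inv_inv, mul_assoc, hV, inv_mul_cancel_left]
      have e' : pj V = pj (gS j)⁻¹ * pj B * (pj (gS j)⁻¹)⁻¹ := by rw [e, map_mul, map_mul, map_inv pj (gS j)⁻¹]
      rw [e']
      exact test_conj hTB _
    rcases h1 with h1 | h1
    · exact false_T (key T (Subtype.ext h1))
    · have h2 := test_inv (key (T * T) (Subtype.ext h1))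
      apply false_T
      have e : T = (T * T)⁻¹ := eq_inv_of_mul_eq_one_left T3
      rw [e, map_inv, map_inv]
      exact h2

end Main

theorem row_zmod : Row3 (PSp 2 (ZMod 3)) := by
  intro x hx hR hT
  have hx3 : x ^ 3 = 1 := orderOf_dvd_iff_pow_eq_one.1 (dvd_of_eq hx)
  have hinj := conj_injective center_P
  have hcA := H316.Red.card_aut (F := ZMod 3) (by rw [ZMod.card])
  have hcP := H316.Red.card_psp (F := ZMod 3) (by rw [ZMod.card])
  set I := (MulAut.conj : PSp 2 (ZMod 3) →* MulAut (PSp 2 (ZMod 3))).range with hI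
  have hIc : Nat.card I = 25920 := by
    rw [hI, ← hcP]
    exact (Nat.card_congr (MonoidHom.ofInjective hinj).toEquiv).symm
  have hidx : I.index = 2 := by
    have h := I.card_mul_index
    rw [hIc, hcA] at h
    omega
  have hxI : x ∈ I := by
    have h1 : x * x ∈ I := mul_self_mem_of_index_two hidx x
    have h2 : x = (x * x) * (x * x) := by
      calc x = x ^ 3 * x := by rw [hx3, one_mul]
        _ = (x * x) * (x * x) := by rw [← pow_succ, p4]
    rw [h2]
    exact mul_mem h1 h1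
  obtain ⟨k, rfl⟩ := hxI
  obtain ⟨A, rfl⟩ := pj_surjective k
  have h3 : pj (A ^ 3) = 1 := by
    apply hinj
    rw [map_pow, map_pow, hx3, map_one]
  have h1 : pj A ≠ 1 := by
    intro h
    rw [h, map_one, orderOf_one] at hx
    omega
  rcases pj_eq_one.1 h3 with h4 | h4
  · exact row_inn (A := A) (Subtype.ext h4) (by rintro rfl; exact h1 (map_one _)) hT
  · -- replace `A` by `-A`
    let n : Sp := mkS (-1) (by decide +kernel)
    have hn : pj n = 1 := pj_eq_one.2 (Or.inr rfl)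
    have hnc : n * A = A * n := Subtype.ext (by show (-1 : M4) * A.1 = A.1 * -1; simp)
    have hn3 : n ^ 3 = n := Subtype.ext (by
      rw [p3]
      show (-1 : M4) * (-1 * -1) = -1
      simp)
    have e : pj (n * A) = pj A := by rw [map_mul, hn, one_mul]
    refine row_inn (A := n * A) ?_ ?_ (by rw [e]; exact hT)
    · rw [(show Commute n A from hnc).mul_pow, hn3]
      apply Subtype.ext
      show (-1 : M4) * (A ^ 3).1 = 1
      rw [h4]
      simp
    · intro h
      rw [h, map_one] at e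
      exact h1 e.symm

theorem row_psp43 {K : Type*} [Group K] [Finite K] [IsSimpleGroup K] {F : Type} [Field F] [Fintype F]
    (hF : Fintype.card F = 3) (e : Nonempty (K ≃* Cfsg.PSp 2 F)) : Cfsg.Agent.H959.Rad3.Row3 K := by
  obtain ⟨e⟩ := e
  have f := Cfsg.Agent.LieClassical.FieldTransfer.pspCongr 2
    (FiniteField.ringEquivOfCardEq (K := F) (K' := ZMod 3) (by rw [hF, ZMod.card]))
  exact Row3.congr (e.trans f) row_zmod

theorem row_psu42 {K : Type*} [Group K] [Finite K] [IsSimpleGroup K] {F : Type} [Field F] [Fintype F]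
    (hF : Fintype.card F = 4) (e : Nonempty (K ≃* Cfsg.PSU 4 F 2)) : Cfsg.Agent.H959.Rad3.Row3 K := by
  obtain ⟨e⟩ := e
  obtain ⟨f⟩ := Cfsg.Agent.S0822.result (F := F) (K := ZMod 3) hF (by rw [ZMod.card])
  exact Row3.congr (e.trans f) row_zmod

end Cfsg.Agent.H855.Rad3.SpFour

private theorem dce_6c11c0319d22 : _root_.True := by
  try have : _root_.True := by simp only [_root_.Cfsg.Agent.H855.Rad3.SpFour.pj.eq_1]
  exact _root_.True.intro
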